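import Groth.Prelude.Def_GLinSh
import Groth.Agent.RelHull.Grp
import Groth.Agent.MonoFactor.Points
import Mathlib

/-!
Orbits through a quotient by a subgroup.
-/

set_option autoImplicit false
set_option linter.style.haveILetI false
set_option backward.isDefEq.respectTransparency false
universe u

open CategoryTheory CategoryTheory.Limits MonoidalCategory CartesianMonoidalCategory MonObj GrpObj AlgebraicGeometry

noncomputable section

namespace Groth.Agent.NRGITLib

section General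

variable {S : Scheme.{u}} {H N Q X Y T : Over S} [GrpObj H] [GrpObj N] [GrpObj Q]
  (i : N ⟶ H) (q : H ⟶ Q) (a : AlgGrp.Action H X) (aN : AlgGrp.Action N X)
  (haN : aN.act = (i ▷ X) ≫ a.act) (π : X ⟶ Y) (hinv : GIT.IsInvariant aN π)
  (aQ : AlgGrp.Action Q Y) (hequiv : (q ⊗ₘ π) ≫ aQ.act = a.act ≫ π)

theorem act_assoc {V : Over S} (g h : V ⟶ H) (x : V ⟶ X) :
    lift (g * h) x ≫ a.act = lift g (lift h x ≫ a.act) ≫ a.act := by
  have := congrArg (fun φ => lift (lift g h) x ≫ φ) a.mul_act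
  simpa [Hom.mul_def] using this

/-- An over-object version of the fibre product. -/
theorem exists_cover {A B C : Over S} (f : A ⟶ C) (g : B ⟶ C) :
    ∃ (P : Over S) (p₁ : P ⟶ A) (p₂ : P ⟶ B), p₁ ≫ f = p₂ ≫ g ∧
      ∀ (x : A.left) (y : B.left), f.left x = g.left y → ∃ z, p₁.left z = x ∧ p₂.left z = y := by
  let P : Over S := Over.mk (pullback.fst f.left g.left ≫ A.hom)
  let p₁ : P ⟶ A := Over.homMk (pullback.fst f.left g.left) rfl
  let p₂ : P ⟶ B := Over.homMk (pullback.snd f.left g.left) (by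
    change _ = pullback.fst f.left g.left ≫ A.hom
    rw [← Over.w g, ← Over.w f, pullback.condition_assoc])
  refine ⟨P, p₁, p₂, Over.OverMorphism.ext pullback.condition, fun x y h => ?_⟩
  obtain ⟨z, hz₁, hz₂⟩ := Scheme.Pullback.exists_preimage_pullback x y h
  exact ⟨z, hz₁, hz₂⟩

include hequiv in
theorem psi_whisker (f : T ⟶ X) :
    (q ▷ T) ≫ GIT.psi aQ (f ≫ π) = GIT.psi a f ≫ (π ▷ T) := by
  refine CartesianMonoidalCategory.hom_ext _ _ ?_ ?_
  · simp only [GIT.psi, Category.assoc, lift_fst, whiskerRight_fst, lift_fst_assoc]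
    rw [← hequiv]
    simp only [← Category.assoc]
    congr 1
    refine CartesianMonoidalCategory.hom_ext _ _ ?_ ?_ <;> simp
  · simp [GIT.psi]

include haN in
/-- The `H`-orbit is a union of fibres of the quotient by `N`. -/
theorem preimage_image_orbit (horb : Function.Surjective (GIT.PsiY aN π hinv).base) (f : T ⟶ X) :
    (π ▷ T).left.base ⁻¹' ((π ▷ T).left.base '' Set.range (GIT.psi a f).left.base) =
      Set.range (GIT.psi a f).left.base := by
  refine Set.Subset.antisymm ?_ (Set.subset_preimage_image _ _)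
  rintro z ⟨_, ⟨h, rfl⟩, hz⟩
  obtain ⟨P, p₁, p₂, hp, hsurj⟩ := exists_cover (π ▷ T) (GIT.psi a f ≫ (π ▷ T))
  obtain ⟨p, hp₁, hp₂⟩ := hsurj z h hz.symm
  let x₁ : P ⟶ X := p₁ ≫ fst X T
  let x₂ : P ⟶ X := p₂ ≫ GIT.psi a f ≫ fst X T
  have hx : x₁ ≫ π = x₂ ≫ π := by
    have := congrArg (· ≫ fst Y T) hp
    simpa [x₁, x₂] using this
  have ht : p₁ ≫ snd X T = p₂ ≫ snd H T := by
    have := congrArg (· ≫ snd Y T) hp
    simpa [GIT.psi] using this
  let r : P.left ⟶ Limits.pullback π.left π.left := pullback.lift x₁.left x₂.left congr($(hx).left)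
  obtain ⟨m, hm⟩ := horb (r p)
  let V : Over S := Over.mk (pullback.fst (GIT.PsiY aN π hinv) r ≫ (N ⊗ X).hom)
  let v₁ : V ⟶ N ⊗ X := Over.homMk (pullback.fst (GIT.PsiY aN π hinv) r) rfl
  have h₁ : pullback.fst (GIT.PsiY aN π hinv) r ≫ aN.act.left = pullback.snd _ _ ≫ x₁.left := by
    have := congrArg (· ≫ pullback.fst π.left π.left) (pullback.condition (f := GIT.PsiY aN π hinv) (g := r))
    simpa [GIT.PsiY, r] using this
  have h₂ : pullback.fst (GIT.PsiY aN π hinv) r ≫ (snd N X).left = pullback.snd _ _ ≫ x₂.left := by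
    have := congrArg (· ≫ pullback.snd π.left π.left) (pullback.condition (f := GIT.PsiY aN π hinv) (g := r))
    simpa [GIT.PsiY, r] using this
  let v₂ : V ⟶ P := Over.homMk (pullback.snd (GIT.PsiY aN π hinv) r) (by
    change _ = pullback.fst (GIT.PsiY aN π hinv) r ≫ (N ⊗ X).hom
    rw [← Over.w aN.act, ← Over.w x₁, reassoc_of% h₁])
  have e₁ : v₁ ≫ aN.act = v₂ ≫ x₁ := Over.OverMorphism.ext h₁
  have e₂ : v₁ ≫ snd N X = v₂ ≫ x₂ := Over.OverMorphism.ext h₂
  let φ : V ⟶ H ⊗ T := lift ((v₁ ≫ fst N X ≫ i) * (v₂ ≫ p₂ ≫ fst H T)) (v₂ ≫ p₂ ≫ snd H T)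
  have hφ : φ ≫ GIT.psi a f = v₂ ≫ p₁ := by
    refine CartesianMonoidalCategory.hom_ext _ _ ?_ ?_
    · have key : lift ((v₁ ≫ fst N X ≫ i) * (v₂ ≫ p₂ ≫ fst H T)) (v₂ ≫ p₂ ≫ snd H T ≫ f) ≫ a.act =
          v₂ ≫ x₁ := by
        rw [act_assoc, ← e₁, haN]
        have : lift (v₂ ≫ p₂ ≫ fst H T) (v₂ ≫ p₂ ≫ snd H T ≫ f) ≫ a.act = v₂ ≫ x₂ := by
          simp [x₂, GIT.psi]
          simp only [← Category.assoc]
          congr 1
          refine CartesianMonoidalCategory.hom_ext _ _ ?_ ?_ <;> simp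
        rw [this, ← e₂]
        simp only [← Category.assoc]
        congr 1
        refine CartesianMonoidalCategory.hom_ext _ _ ?_ ?_ <;> simp
      simp only [GIT.psi, Category.assoc, lift_fst]
      refine Eq.trans ?_ key
      simp only [φ, ← Category.assoc]
      congr 1
      refine CartesianMonoidalCategory.hom_ext _ _ ?_ ?_ <;> simp
    · simp only [φ, GIT.psi, Category.assoc, lift_snd]
      rw [ht]
  obtain ⟨w, -, hw⟩ := Scheme.Pullback.exists_preimage_pullback (f := GIT.PsiY aN π hinv) (g := r) m p hm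
  refine ⟨φ.left w, ?_⟩
  rw [← hp₁]
  exact ((Scheme.Hom.comp_apply φ.left _ w).symm.trans congr(($(hφ).left) w)).trans
    ((Scheme.Hom.comp_apply v₂.left p₁.left w).trans (congrArg _ hw))

include haN hequiv hinv in
theorem isClosed_orbit_iff [Surjective q.left] (horb : Function.Surjective (GIT.PsiY aN π hinv).base)
    (hsub : GIT.IsUnivSubmersive π.left) (f : T ⟶ X) :
    IsClosed (Set.range (GIT.psi aQ (f ≫ π)).left.base) ↔ IsClosed (Set.range (GIT.psi a f).left.base) := by
  have hq : Topology.IsQuotientMap (π ▷ T).left.base :=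
    hsub (fst X T).left (fst Y T).left (π ▷ T).left (RelHull.isPullback_whiskerRight π T).flip
  haveI : Surjective (q ▷ T).left :=
    MorphismProperty.of_isPullback (RelHull.isPullback_whiskerRight q T) ‹Surjective q.left›
  have himg : Set.range (GIT.psi aQ (f ≫ π)).left.base =
      (π ▷ T).left.base '' Set.range (GIT.psi a f).left.base := by
    rw [← Set.range_comp, ← (q ▷ T).left.surjective.range_comp (GIT.psi aQ (f ≫ π)).left.base]
    refine congrArg Set.range (funext fun x => ?_)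
    exact ((Scheme.Hom.comp_apply _ _ x).symm.trans congr(($(psi_whisker q a π aQ hequiv f).left) x)).trans
      (Scheme.Hom.comp_apply _ _ x)
  rw [himg, ← hq.isClosed_preimage, preimage_image_orbit i a aN haN π hinv horb f]

end General

variable {k : Type u} [Field k]

/-- Geometric points lift along surjections. -/
theorem exists_lift_point {X Y T : Over (Spec (CommRingCat.of k))} [LocallyOfFiniteType X.hom] (π : X ⟶ Y)
    [Surjective π.left] (Ω : Type u) [Field Ω] [IsAlgClosed Ω] (e : T.left ≅ Spec (CommRingCat.of Ω)) (y : T ⟶ Y) :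
    ∃ x : T ⟶ X, x ≫ π = y := by
  obtain ⟨φ, hφ⟩ := Spec.map_surjective (e.inv ≫ T.hom)
  letI : Algebra k Ω := φ.hom.toAlgebra
  let eT : Over.mk (Spec.map (CommRingCat.ofHom (algebraMap k Ω))) ≅ T := Over.isoMk e.symm hφ.symm
  obtain ⟨g, hg⟩ := MonoFactor.exists_lift_algClosed_point (K := Ω) π (eT.hom ≫ y)
  exact ⟨eT.inv ≫ g, by rw [Category.assoc, hg, Iso.inv_hom_id_assoc]⟩

end Groth.Agent.NRGITLib
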