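import Groth.Agent.NRGITLib.Orbit
import Mathlib

/-!
Stabilisers of geometric points through a quotient by a subgroup, via their rational points.
-/

set_option autoImplicit false
set_option linter.style.haveILetI false
set_option backward.isDefEq.respectTransparency false
universe u

open CategoryTheory CategoryTheory.Limits MonoidalCategory CartesianMonoidalCategory MonObj GrpObj AlgebraicGeometry

noncomputable section

namespace Groth.Agent.NRGITLib

variable {S : Scheme.{u}}

/-- The points of the stabiliser. -/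
abbrev StabPts {H X T : Over S} [GrpObj H] (a : AlgGrp.Action H X) (f : T ⟶ X) : Type u :=
  {g : T ⟶ H // lift g f ≫ a.act = f}

theorem one_act' {H X V : Over S} [GrpObj H] (a : AlgGrp.Action H X) (x : V ⟶ X) :
    lift (1 : V ⟶ H) x ≫ a.act = x := by
  have := congrArg (fun φ => lift (toUnit V) x ≫ φ) a.one_act
  simpa [Hom.one_def] using this

theorem inv_mem {H X T : Over S} [GrpObj H] (a : AlgGrp.Action H X) {f : T ⟶ X} {g : T ⟶ H}
    (h : lift g f ≫ a.act = f) : lift g⁻¹ f ≫ a.act = f := by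
  conv_lhs => rw [← h]
  rw [← act_assoc, inv_mul_cancel, one_act']

def sectionsEquiv {H X T : Over S} [GrpObj H] (a : AlgGrp.Action H X) (f : T ⟶ X) :
    {s : T.left ⟶ GLinSh.stab a f // s ≫ GLinSh.stabTo a f = 𝟙 _} ≃ StabPts a f where
  toFun s :=
    let m : T ⟶ H ⊗ T := Over.homMk (s.1 ≫ pullback.fst _ _) (by
      rw [← Over.w (GIT.psi a f), Category.assoc, pullback.condition_assoc, ← Category.assoc s.1,
        show s.1 ≫ pullback.snd _ _ = 𝟙 _ from s.2, Category.id_comp]
      exact Over.w (lift f (𝟙 T)))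
    ⟨m ≫ fst H T, by
      have hm : m ≫ GIT.psi a f = lift f (𝟙 T) := Over.OverMorphism.ext (by
        change (s.1 ≫ pullback.fst _ _) ≫ _ = _
        rw [Category.assoc, pullback.condition, ← Category.assoc,
          show s.1 ≫ pullback.snd _ _ = 𝟙 _ from s.2, Category.id_comp])
      have h1 : m ≫ snd H T = 𝟙 T := by simpa [GIT.psi] using congrArg (· ≫ snd X T) hm
      have h2 := congrArg (· ≫ fst X T) hm
      simp only [GIT.psi, Category.assoc, lift_fst] at h2
      refine Eq.trans ?_ h2
      simp only [← Category.assoc]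
      congr 1
      refine CartesianMonoidalCategory.hom_ext _ _ ?_ ?_
      · simp
      · simp [reassoc_of% h1]⟩
  invFun g := ⟨pullback.lift (lift g.1 (𝟙 T)).left (𝟙 _) (by
    rw [Category.id_comp, ← Over.comp_left]
    congr 1
    refine CartesianMonoidalCategory.hom_ext _ _ ?_ ?_
    · simp only [GIT.psi, Category.assoc, lift_fst]
      refine Eq.trans ?_ g.2
      simp only [← Category.assoc]
      congr 1
      refine CartesianMonoidalCategory.hom_ext _ _ ?_ ?_ <;> simp
    · simp [GIT.psi]), pullback.lift_snd _ _ _⟩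
  left_inv s := by
    refine Subtype.ext (pullback.hom_ext ?_ (by rw [pullback.lift_snd]; exact s.2.symm))
    simp only [pullback.lift_fst]
    let m : T ⟶ H ⊗ T := Over.homMk (s.1 ≫ pullback.fst _ _) (by
      rw [← Over.w (GIT.psi a f), Category.assoc, pullback.condition_assoc, ← Category.assoc s.1,
        show s.1 ≫ pullback.snd _ _ = 𝟙 _ from s.2, Category.id_comp]
      exact Over.w (lift f (𝟙 T)))
    have hm : m ≫ GIT.psi a f = lift f (𝟙 T) := Over.OverMorphism.ext (by
      change (s.1 ≫ pullback.fst _ _) ≫ _ = _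
      rw [Category.assoc, pullback.condition, ← Category.assoc,
        show s.1 ≫ pullback.snd _ _ = 𝟙 _ from s.2, Category.id_comp])
    have h1 : m ≫ snd H T = 𝟙 T := by simpa [GIT.psi] using congrArg (· ≫ snd X T) hm
    have : lift (m ≫ fst H T) (𝟙 T) = m := by
      rw [← h1]
      refine CartesianMonoidalCategory.hom_ext _ _ ?_ ?_ <;> simp
    exact congrArg (fun z : T ⟶ H ⊗ T => z.left) this
  right_inv g := by
    refine Subtype.ext (Over.OverMorphism.ext ?_)
    change (pullback.lift _ _ _ ≫ pullback.fst _ _) ≫ (fst H T).left = g.1.left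
    rw [pullback.lift_fst, ← Over.comp_left, lift_fst]

variable {k : Type u} [Field k]

theorem isFinite_stabTo_iff {H X T : Over (Spec (CommRingCat.of k))} [GrpObj H] [LocallyOfFiniteType H.hom]
    [QuasiCompact H.hom] [IsSeparated X.hom] (a : AlgGrp.Action H X) (f : T ⟶ X) (Ω : Type u) [Field Ω]
    [IsAlgClosed Ω] (e : T.left ≅ Spec (CommRingCat.of Ω)) :
    IsFinite (GLinSh.stabTo a f) ↔ Finite (StabPts a f) := by
  haveI : LocallyOfFiniteType (snd H T).left :=
    MorphismProperty.pullback_snd (P := @LocallyOfFiniteType) H.hom T.hom ‹_›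
  haveI : QuasiCompact (snd H T).left := MorphismProperty.pullback_snd (P := @QuasiCompact) H.hom T.hom ‹_›
  haveI : IsSeparated (snd X T).left := MorphismProperty.pullback_snd (P := @IsSeparated) X.hom T.hom ‹_›
  have hpsi : (GIT.psi a f).left ≫ (snd X T).left = (snd H T).left := by
    rw [← Over.comp_left]; simp [GIT.psi]
  haveI : LocallyOfFiniteType ((GIT.psi a f).left ≫ (snd X T).left) := by rw [hpsi]; infer_instance
  haveI : LocallyOfFiniteType (GIT.psi a f).left := locallyOfFiniteType_of_comp _ (snd X T).left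
  haveI : QuasiCompact ((GIT.psi a f).left ≫ (snd X T).left) := by rw [hpsi]; infer_instance
  haveI : QuasiCompact (GIT.psi a f).left := QuasiCompact.of_comp _ (snd X T).left
  haveI : LocallyOfFiniteType (GLinSh.stabTo a f) :=
    MorphismProperty.pullback_snd (P := @LocallyOfFiniteType) (GIT.psi a f).left (lift f (𝟙 T)).left ‹_›
  haveI : QuasiCompact (GLinSh.stabTo a f) :=
    MorphismProperty.pullback_snd (P := @QuasiCompact) (GIT.psi a f).left (lift f (𝟙 T)).left ‹_›
  let p : GLinSh.stab a f ⟶ Spec (CommRingCat.of Ω) := GLinSh.stabTo a f ≫ e.hom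
  haveI : JacobsonSpace (GLinSh.stab a f) := LocallyOfFiniteType.jacobsonSpace p
  let E : {s : T.left ⟶ GLinSh.stab a f // s ≫ GLinSh.stabTo a f = 𝟙 _} ≃
      {s : Spec (CommRingCat.of Ω) ⟶ GLinSh.stab a f // s ≫ p = 𝟙 _} :=
    { toFun := fun s => ⟨e.inv ≫ s.1, by simp [p, reassoc_of% s.2]⟩
      invFun := fun s => ⟨e.hom ≫ s.1, by
        rw [← cancel_mono e.hom, Category.assoc, Category.assoc, Category.id_comp,
          show s.1 ≫ GLinSh.stabTo a f ≫ e.hom = 𝟙 _ from s.2, Category.comp_id]⟩
      left_inv := fun s => by simp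
      right_inv := fun s => by simp }
  rw [← MorphismProperty.cancel_right_of_respectsIso (P := @IsFinite) (GLinSh.stabTo a f) e.hom,
    ← ((sectionsEquiv a f).symm.trans (E.trans (pointEquivClosedPoint p))).finite_iff.symm]
  refine ⟨fun h => ?_, fun h => ?_⟩
  · haveI : IsFinite p := h
    haveI : Finite (GLinSh.stab a f) := by
      refine Set.finite_univ_iff.1 ?_
      exact (p.finite_preimage_singleton (IsLocalRing.closedPoint Ω)).subset fun w _ =>
        (Subsingleton.elim (α := PrimeSpectrum Ω) _ _ : p w = IsLocalRing.closedPoint Ω)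
    infer_instance
  · have hcl : (closedPoints (GLinSh.stab a f)).Finite := Set.finite_coe_iff.1 h
    have hc : IsClosed (closedPoints (GLinSh.stab a f)) := by
      rw [← Set.biUnion_of_singleton (closedPoints (GLinSh.stab a f))]
      exact hcl.isClosed_biUnion fun w hw => hw
    have huniv : closedPoints (GLinSh.stab a f) = Set.univ := by
      rw [← hc.closure_eq, closure_closedPoints]
    haveI : Finite (GLinSh.stab a f) := Set.finite_univ_iff.1 (huniv ▸ hcl)
    haveI : LocallyQuasiFinite p := locallyQuasiFinite_iff_finite_preimage_singleton.2 fun _ => Set.toFinite _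
    exact IsFinite.of_locallyQuasiFinite p

theorem isFinite_stab_iff {H N Q X Y T : Over (Spec (CommRingCat.of k))} [GrpObj H] [GrpObj N] [GrpObj Q]
    [LocallyOfFiniteType H.hom] [QuasiCompact H.hom] [LocallyOfFiniteType N.hom] [QuasiCompact N.hom]
    [LocallyOfFiniteType Q.hom] [QuasiCompact Q.hom] [LocallyOfFiniteType X.hom] [IsSeparated X.hom] [IsSeparated Y.hom]
    (i : N ⟶ H) [IsMonHom i] (q : H ⟶ Q) [IsMonHom q] [Surjective q.left] (hker : AlgGrp.IsKernel i q)
    (a : AlgGrp.Action H X) (aN : AlgGrp.Action N X) (haN : aN.act = (i ▷ X) ≫ a.act)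
    (π : X ⟶ Y) (hinv : GIT.IsInvariant aN π) (horb : Function.Surjective (GIT.PsiY aN π hinv).base)
    (aQ : AlgGrp.Action Q Y) (hequiv : (q ⊗ₘ π) ≫ aQ.act = a.act ≫ π)
    (Ω : Type u) [Field Ω] [IsAlgClosed Ω] (e : T.left ≅ Spec (CommRingCat.of Ω)) (x : T ⟶ X)
    (hfin : IsFinite (GLinSh.stabTo aN x)) :
    IsFinite (GLinSh.stabTo aQ (x ≫ π)) ↔ IsFinite (GLinSh.stabTo a x) := by
  rw [isFinite_stabTo_iff aQ _ Ω e, isFinite_stabTo_iff a _ Ω e]
  haveI : Finite (StabPts aN x) := (isFinite_stabTo_iff aN x Ω e).1 hfin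
  have hNi : ∀ n : T ⟶ N, lift n x ≫ aN.act = lift (n ≫ i) x ≫ a.act := fun n => by
    rw [haN, lift_whiskerRight_assoc]
  have hmap : ∀ g : T ⟶ H, lift (g ≫ q) (x ≫ π) ≫ aQ.act = (lift g x ≫ a.act) ≫ π := fun g => by
    rw [Category.assoc, ← hequiv, lift_map_assoc]
  have hiq : ∀ n : T ⟶ N, (n ≫ i) ≫ q = 1 := fun n => by
    rw [Category.assoc, hker.w, ← Category.assoc, Hom.one_def]
    congr 1
    exact toUnit_unique _ _
  let ρ : StabPts a x → StabPts aQ (x ≫ π) := fun g => ⟨g.1 ≫ q, by rw [hmap, g.2]⟩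
  refine ⟨fun hQ => ?_, fun hA => ?_⟩
  · -- the fibres of `ρ` are translates of the stabiliser in `N`
    have hfib : ∀ g g' : StabPts a x, ρ g = ρ g' → ∃ n : StabPts aN x, g.1 = (n.1 ≫ i) * g'.1 := by
      intro g g' h
      have h1 : (g.1 * g'.1⁻¹) ≫ q = 1 := by
        rw [MonObj.mul_comp, GrpObj.inv_comp, show g.1 ≫ q = g'.1 ≫ q from congrArg Subtype.val h, mul_inv_cancel]
      obtain ⟨n, hn, -⟩ := hker.exists_lift (g.1 * g'.1⁻¹) (toUnit T) (h1.trans Hom.one_def)
      refine ⟨⟨n, ?_⟩, by rw [hn, inv_mul_cancel_right]⟩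
      rw [hNi, hn, act_assoc, inv_mem a g'.2, g.2]
    classical
    choose sec hsec using fun y : Set.range ρ => y.2
    let rep : StabPts a x → StabPts a x := fun g => sec ⟨ρ g, g, rfl⟩
    have hrep : ∀ g, ρ g = ρ (rep g) := fun g => (hsec ⟨ρ g, g, rfl⟩).symm
    choose n hn using fun g => hfib g (rep g) (hrep g)
    refine Finite.of_injective (fun g => (ρ g, n g)) fun g g' h => ?_
    simp only [Prod.mk.injEq] at h
    refine Subtype.ext ?_
    rw [hn g, hn g', h.2]
    simp only [rep, h.1]
  · refine Finite.of_surjective ρ fun y => ?_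
    obtain ⟨h, hh⟩ := exists_lift_point q Ω e y.1
    let x' := lift h x ≫ a.act
    have hx' : x' ≫ π = x ≫ π := by rw [← hmap, hh, y.2]
    let P : Over (Spec (CommRingCat.of k)) := Over.mk (pullback.fst π.left π.left ≫ X.hom)
    let Ψ : N ⊗ X ⟶ P := Over.homMk (GIT.PsiY aN π hinv) (by
      change _ ≫ pullback.fst π.left π.left ≫ X.hom = _
      rw [GIT.PsiY, pullback.lift_fst_assoc]
      exact Over.w aN.act)
    haveI : Surjective Ψ.left := ⟨horb⟩
    haveI : LocallyOfFiniteType (N ⊗ X).hom := by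
      haveI : LocallyOfFiniteType (snd N X).left :=
        MorphismProperty.pullback_snd (P := @LocallyOfFiniteType) N.hom X.hom ‹_›
      rw [← Over.w (snd N X)]; infer_instance
    let r : T ⟶ P := Over.homMk (pullback.lift x'.left x.left congr($(hx').left)) (by
      change _ ≫ pullback.fst π.left π.left ≫ X.hom = _
      rw [pullback.lift_fst_assoc]
      exact Over.w x')
    obtain ⟨m, hm⟩ := exists_lift_point Ψ Ω e r
    have hm' : m.left ≫ GIT.PsiY aN π hinv = pullback.lift x'.left x.left congr($(hx').left) :=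
      congrArg (fun z : T ⟶ P => z.left) hm
    have h1 : m ≫ aN.act = x' := Over.OverMorphism.ext (by
      simpa [GIT.PsiY] using congrArg (· ≫ pullback.fst π.left π.left) hm')
    have h2 : m ≫ snd N X = x := Over.OverMorphism.ext (by
      simpa [GIT.PsiY] using congrArg (· ≫ pullback.snd π.left π.left) hm')
    let n : T ⟶ N := m ≫ fst N X
    have h3 : lift (n ≫ i) x ≫ a.act = x' := by
      rw [← hNi, ← h1]
      congr 1
      conv_lhs => rw [← h2]
      refine CartesianMonoidalCategory.hom_ext _ _ ?_ ?_ <;> simp [n]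
    refine ⟨⟨(n ≫ i)⁻¹ * h, ?_⟩, Subtype.ext ?_⟩
    · rw [act_assoc]
      change lift (n ≫ i)⁻¹ x' ≫ a.act = x
      rw [← h3, ← act_assoc, inv_mul_cancel, one_act']
    · change ((n ≫ i)⁻¹ * h) ≫ q = y.1
      rw [MonObj.mul_comp, GrpObj.inv_comp, hiq, inv_one, _root_.one_mul, hh]

end Groth.Agent.NRGITLib
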